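import Cfsg.Agent.Lib.Recognition.UFourThree.Cert.CertGData

/-!
# Checks 2 of certG

Machine-generated data.
-/

set_option maxRecDepth 100000
set_option linter.style.longLine false

namespace CfsgLib.Recognition.UFourThree.CertData

open CfsgLib.Sporadic.CosetCert

theorem certG_keys16 : certG.keysOK 64000 4000 = true := by decide +kernel
theorem certG_keys17 : certG.keysOK 68000 4000 = true := by decide +kernel
theorem certG_keys18 : certG.keysOK 72000 4000 = true := by decide +kernel
theorem certG_keys19 : certG.keysOK 76000 4000 = true := by decide +kernel
theorem certG_keys20 : certG.keysOK 80000 4000 = true := by decide +kernel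
theorem certG_keys21 : certG.keysOK 84000 4000 = true := by decide +kernel
theorem certG_keys22 : certG.keysOK 88000 4000 = true := by decide +kernel
theorem certG_keys23 : certG.keysOK 92000 4000 = true := by decide +kernel

end CfsgLib.Recognition.UFourThree.CertData
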