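import Cfsg.Agent.Lib.Recognition.UFourThree.Cert.CertGData

/-!
# Checks 3 of certG

Machine-generated data.
-/

set_option maxRecDepth 100000
set_option linter.style.longLine false

namespace CfsgLib.Recognition.UFourThree.CertData

open CfsgLib.Sporadic.CosetCert

theorem certG_keys24 : certG.keysOK 96000 4000 = true := by decide +kernel
theorem certG_keys25 : certG.keysOK 100000 4000 = true := by decide +kernel
theorem certG_keys26 : certG.keysOK 104000 4000 = true := by decide +kernel
theorem certG_keys27 : certG.keysOK 108000 4000 = true := by decide +kernel
theorem certG_keys28 : certG.keysOK 112000 4000 = true := by decide +kernel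
theorem certG_keys29 : certG.keysOK 116000 4000 = true := by decide +kernel
theorem certG_keys30 : certG.keysOK 120000 4000 = true := by decide +kernel
theorem certG_keys31 : certG.keysOK 124000 4000 = true := by decide +kernel

end CfsgLib.Recognition.UFourThree.CertData
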