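import Cfsg.Agent.Lib.Recognition.UFourThree.Cert.CertGData

/-!
# Checks 6 of certG

Machine-generated data.
-/

set_option maxRecDepth 100000
set_option linter.style.longLine false

namespace CfsgLib.Recognition.UFourThree.CertData

open CfsgLib.Sporadic.CosetCert

theorem certG_keys48 : certG.keysOK 192000 4000 = true := by decide +kernel
theorem certG_keys49 : certG.keysOK 196000 4000 = true := by decide +kernel
theorem certG_keys50 : certG.keysOK 200000 4000 = true := by decide +kernel
theorem certG_keys51 : certG.keysOK 204000 2988 = true := by decide +kernel
theorem certG_closed0 : certG.closedFrom 96795 0 1000 = true := by decide +kernel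
theorem certG_closed1 : certG.closedFrom 96795 1000 1000 = true := by decide +kernel
theorem certG_closed2 : certG.closedFrom 96795 2000 835 = true := by decide +kernel

end CfsgLib.Recognition.UFourThree.CertData
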