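import Cfsg.Agent.Lib.Recognition.UFourThree.Cert.CertGCheck0
import Cfsg.Agent.Lib.Recognition.UFourThree.Cert.CertGCheck1
import Cfsg.Agent.Lib.Recognition.UFourThree.Cert.CertGCheck2
import Cfsg.Agent.Lib.Recognition.UFourThree.Cert.CertGCheck3
import Cfsg.Agent.Lib.Recognition.UFourThree.Cert.CertGCheck4
import Cfsg.Agent.Lib.Recognition.UFourThree.Cert.CertGCheck5
import Cfsg.Agent.Lib.Recognition.UFourThree.Cert.CertGCheck6

/-!
# Coset certificate certG

Machine-generated data.
-/

set_option maxRecDepth 100000
set_option linter.style.longLine false

namespace CfsgLib.Recognition.UFourThree.CertData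

open CfsgLib.Sporadic.CosetCert


theorem certG_valid : certG.Valid :=
  valid_of
    (fun k hk => (range_split (range_split (range_split (range_split (range_split (range_split (range_split (range_split (range_split (range_split (range_split (range_split (range_split (range_split (range_split (range_split (range_split (range_split (range_split (range_split (range_split (range_split (range_split (range_split (range_split (range_split (range_split (range_split (range_split (range_split (range_split (range_split (range_split (range_split (range_split (range_split (range_split (range_split (range_split (range_split (range_split (range_split (range_split (range_split (range_split (range_split (range_split (range_split (range_split (range_split (range_split (keysOK_spec certG_keys0) (keysOK_spec certG_keys1)) (keysOK_spec certG_keys2)) (keysOK_spec certG_keys3)) (keysOK_spec certG_keys4)) (keysOK_spec certG_keys5)) (keysOK_spec certG_keys6)) (keysOK_spec certG_keys7)) (keysOK_spec certG_keys8)) (keysOK_spec certG_keys9)) (keysOK_spec certG_keys10)) (keysOK_spec certG_keys11)) (keysOK_spec certG_keys12)) (keysOK_spec certG_keys13)) (keysOK_spec certG_keys14)) (keysOK_spec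 certG_keys15)) (keysOK_spec certG_keys16)) (keysOK_spec certG_keys17)) (keysOK_spec certG_keys18)) (keysOK_spec certG_keys19)) (keysOK_spec certG_keys20)) (keysOK_spec certG_keys21)) (keysOK_spec certG_keys22)) (keysOK_spec certG_keys23)) (keysOK_spec certG_keys24)) (keysOK_spec certG_keys25)) (keysOK_spec certG_keys26)) (keysOK_spec certG_keys27)) (keysOK_spec certG_keys28)) (keysOK_spec certG_keys29)) (keysOK_spec certG_keys30)) (keysOK_spec certG_keys31)) (keysOK_spec certG_keys32)) (keysOK_spec certG_keys33)) (keysOK_spec certG_keys34)) (keysOK_spec certG_keys35)) (keysOK_spec certG_keys36)) (keysOK_spec certG_keys37)) (keysOK_spec certG_keys38)) (keysOK_spec certG_keys39)) (keysOK_spec certG_keys40)) (keysOK_spec certG_keys41)) (keysOK_spec certG_keys42)) (keysOK_spec certG_keys43)) (keysOK_spec certG_keys44)) (keysOK_spec certG_keys45)) (keysOK_spec certG_keys46)) (keysOK_spec certG_keys47)) (keysOK_spec certG_keys48)) (keysOK_spec certG_keys49)) (keysOK_spec certG_keys50)) (keysOK_spec certG_keys51)) k (Nat.zero_le _) hk)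
    (fun u hu => ⟨96795, (range_split (range_split (closedFrom_spec certG_closed0) (closedFrom_spec certG_closed1)) (closedFrom_spec certG_closed2)) u (Nat.zero_le _) hu⟩)
    (by decide +kernel) (by decide +kernel)

end CfsgLib.Recognition.UFourThree.CertData
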