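import Cfsg.Agent.Lib.Recognition.UFourThree.Cert.CertGData

/-!
# Checks 0 of certG

Machine-generated data.
-/

set_option maxRecDepth 100000
set_option linter.style.longLine false

namespace CfsgLib.Recognition.UFourThree.CertData

open CfsgLib.Sporadic.CosetCert

theorem certG_keys0 : certG.keysOK 0 4000 = true := by decide +kernel
theorem certG_keys1 : certG.keysOK 4000 4000 = true := by decide +kernel
theorem certG_keys2 : certG.keysOK 8000 4000 = true := by decide +kernel
theorem certG_keys3 : certG.keysOK 12000 4000 = true := by decide +kernel
theorem certG_keys4 : certG.keysOK 16000 4000 = true := by decide +kernel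
theorem certG_keys5 : certG.keysOK 20000 4000 = true := by decide +kernel
theorem certG_keys6 : certG.keysOK 24000 4000 = true := by decide +kernel
theorem certG_keys7 : certG.keysOK 28000 4000 = true := by decide +kernel

end CfsgLib.Recognition.UFourThree.CertData
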